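import Cfsg.Agent.H40.Balance
import Cfsg.Agent.Cores.LBalanceMain
import Cfsg.Agent.Components.Layer
import Cfsg.Prelude.Def_Local

/-!
# A group without unbalancing triples is balanced
-/

set_option autoImplicit false
set_option linter.style.haveILetI false
set_option linter.unusedSectionVars false

namespace Cfsg.Agent.H13.Unbalanced

open Subgroup

variable {X : Type*} [Group X] [Finite X]

local instance : Fact (Nat.Prime 2) := ⟨Nat.prime_two⟩

/-- A central signalizer centralizing every component of a group with trivial odd core is trivial. -/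
theorem eq_bot_of_centralizes (hO : Cfsg.pPrimeCore 2 X = ⊥) {x : X} {Y : Subgroup X}
    (h : H40.IsCentralSignalizer 2 x Y)
    (hcomp : ∀ J : Subgroup X, Cfsg.IsComponent J → Y ≤ centralizer (J : Set X)) : Y = ⊥ := by
  set F := Cfsg.generalizedFittingSubgroup X with hF
  have hYF : Y ≤ centralizer (F : Set X) := by
    rw [le_centralizer_iff, hF]
    refine sup_le (Components.layer_le_iff.2 fun J hJ => le_centralizer_iff.1 (hcomp J hJ)) ?_
    exact (Components.fitting_le_pCore hO).trans (le_centralizer_iff.1 (H40.sig_le_centralizer_pCore h))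
  set Z := centralizer (F : Set X) with hZ
  haveI : Z.Normal := inferInstance
  haveI : IsMulCommutative Z := le_centralizer_iff_isMulCommutative.1
    (centralizer_le (SetLike.coe_subset_coe.2 Components.centralizer_genFitting_le))
  have hZp : Z ≤ Cfsg.pCore 2 X :=
    (Cores.le_fittingSubgroup (by open scoped IsMulCommutative in exact CommGroup.isNilpotent)).trans
      (Components.fitting_le_pCore hO)
  rw [eq_bot_iff, ← Cores.disjoint_of_isPGroup_of_coprime (p := 2) Cores.pCore_isPGroup h.coprime]
  exact le_inf (hYF.trans hZp) le_rfl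

variable {G : Type*} [Group G] [Finite G]

/-- For commuting involutions `a`, `x`, either `O(C(x)) ∩ C(a) ≤ O(C(a))` or some `x`-invariant
`2`-component `L` of `C(a)` satisfies `L = O(L)[L, O(C(x)) ∩ C(a)]`. -/
theorem le_core_or_triple {a x : G} (hx : orderOf x = 2) (hax : Commute a x) :
    Cfsg.centralizerPPrimeCore 2 x ⊓ centralizer ({a} : Set G) ≤ Cfsg.centralizerPPrimeCore 2 a ∨
      ∃ L : Subgroup ↥(centralizer ({a} : Set G)), Cfsg.IsPComponent 2 L ∧
        (∀ l ∈ L.map (centralizer ({a} : Set G)).subtype,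
          x * l * x⁻¹ ∈ L.map (centralizer ({a} : Set G)).subtype) ∧
        L.map (centralizer ({a} : Set G)).subtype =
          (Cfsg.oddCore ↥L).map ((centralizer ({a} : Set G)).subtype.comp L.subtype) ⊔
            ⁅L.map (centralizer ({a} : Set G)).subtype,
              Cfsg.centralizerPPrimeCore 2 x ⊓ centralizer ({a} : Set G)⁆ := by
  set C := centralizer ({a} : Set G) with hC
  set D := Cfsg.centralizerPPrimeCore 2 x ⊓ C with hD
  set D' := D.subgroupOf C with hD'
  set x' : ↥C := ⟨x, mem_centralizer_singleton_iff.2 hax.eq.symm⟩ with hx'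
  have hxo : orderOf x' = 2 := by rw [← Subgroup.orderOf_coe]; exact hx
  set O := Cfsg.pPrimeCore 2 ↥C with hOdef
  haveI : (Cfsg.pPrimeCore 2 ↥C).Characteristic := Cores.pPrimeCore_characteristic
  set q := Components.qmap 2 ↥C with hq
  have hxpe : H40.IsPElem 2 x := ⟨1, by rw [pow_one, ← hx, pow_orderOf_eq_one]⟩
  have hsx := H40.isCentralSignalizer_core (p := 2) hxpe
  have hcx' : ∀ c : ↥C, c ∈ centralizer ({x'} : Set ↥C) → (c : G) ∈ centralizer ({x} : Set G) :=
    fun c hc => mem_centralizer_singleton_iff.2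
      (congrArg Subtype.val (mem_centralizer_singleton_iff.1 hc))
  have hD'x : D' ≤ centralizer ({x'} : Set ↥C) := by
    intro d hd
    exact mem_centralizer_singleton_iff.2
      (Subtype.ext (mem_centralizer_singleton_iff.1 (hsx.le_centralizer hd.1)))
  have hD'n : centralizer ({x'} : Set ↥C) ≤ normalizer (D' : Set ↥C) := by
    have key : ∀ c ∈ centralizer ({x'} : Set ↥C), ∀ d ∈ D', c * d * c⁻¹ ∈ D' := fun c hc d hd =>
      ⟨(mem_normalizer_iff.1 (hsx.normalized (hcx' c hc)) _).1 hd.1, (c * d * c⁻¹).2⟩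
    intro c hc
    rw [mem_normalizer_iff]
    refine fun d => ⟨key c hc d, fun h => ?_⟩
    simpa [mul_assoc] using key c⁻¹ (inv_mem hc) _ h
  have hD'o : (Nat.card D').Coprime 2 := by
    refine hsx.coprime.coprime_dvd_left ?_
    rw [Nat.card_congr (subgroupOfEquivOfLe (inf_le_right : D ≤ C)).toEquiv]
    exact card_dvd_of_le inf_le_left
  have hsig : H40.IsCentralSignalizer 2 (q x') (D'.map q) := by
    refine ⟨⟨1, by rw [pow_one, ← map_pow, show x' ^ 2 = 1 from hxo ▸ pow_orderOf_eq_one x', map_one]⟩,
      ?_, ?_, hD'o.coprime_dvd_left (card_map_dvd _ _)⟩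
    · rintro _ ⟨d, hd, rfl⟩
      rw [mem_centralizer_singleton_iff, ← map_mul, ← map_mul,
        mem_centralizer_singleton_iff.1 (hD'x hd)]
    · intro c hc
      obtain ⟨c, rfl⟩ := Components.qmap_surjective c
      obtain ⟨r, hr, hrc⟩ := Cores.exists_mul_mem_centralizer (T := zpowers x')
        (R := O) (IsPGroup.of_card (n := 1) (by rw [Nat.card_zpowers, hxo, pow_one]))
        Cores.odd_card_oddCore (Components.le_normalizer_of_normal _) (x := c) (fun t ht => by
          obtain ⟨i, rfl⟩ := mem_zpowers_iff.1 ht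
          refine (QuotientGroup.eq_one_iff _).1 ?_
          show q (c * x' ^ i * c⁻¹ * (x' ^ i)⁻¹) = 1
          have hcomm : Commute (q c) (q x' ^ i) :=
            (show Commute (q c) (q x') from mem_centralizer_singleton_iff.1 hc).zpow_right i
          rw [map_mul, map_mul, map_mul, map_inv, map_inv, map_zpow, hcomm.eq]
          group)
      rw [H40.centralizer_zpowers_eq] at hrc
      have h1 := Subgroup.le_normalizer_map q ⟨r * c, hD'n hrc, rfl⟩
      rwa [map_mul, show q r = 1 from (QuotientGroup.eq_one_iff r).2 hr, one_mul] at h1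
  by_cases hall : ∀ J : Subgroup (↥C ⧸ O), Cfsg.IsComponent J → D'.map q ≤ centralizer (J : Set _)
  · left
    have h1 := eq_bot_of_centralizes Components.pPrimeCore_quotient_eq_bot hsig hall
    rw [Subgroup.map_eq_bot_iff, Components.ker_qmap] at h1
    intro d hd
    exact ⟨⟨d, hd.2⟩, h1 (show (⟨d, hd.2⟩ : ↥C) ∈ D' from hd), rfl⟩
  push Not at hall
  obtain ⟨J, hJ, hJD⟩ := hall
  right
  have hOx : Cfsg.pPrimeCore 2 (↥C ⧸ O) = ⊥ := Components.pPrimeCore_quotient_eq_bot
  have hqx : orderOf (q x') = 2 := by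
    refine orderOf_eq_prime (by rw [← map_pow, show x' ^ 2 = 1 from hxo ▸ pow_orderOf_eq_one x', map_one])
      fun h => ?_
    have h2 : x' ∈ O := (QuotientGroup.eq_one_iff x').1 h
    have h3 : orderOf x' ∣ Nat.card O := by
      rw [show orderOf x' = orderOf (⟨x', h2⟩ : O) from (Subgroup.orderOf_mk x' h2).symm]
      exact orderOf_dvd_natCard _
    rw [hxo] at h3
    exact Nat.not_even_iff_odd.2 Cores.odd_card_oddCore (even_iff_two_dvd.2 h3)
  have hxn : q x' ∈ normalizer (J : Set (↥C ⧸ O)) := by
    by_contra hxn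
    exact hJD (H40.sig_le_centralizer hOx hqx hsig hJ (Or.inr hxn))
  have hDn : D'.map q ≤ normalizer (J : Set (↥C ⧸ O)) := H40.sig_le_normalizer hOx hsig hJ
  obtain ⟨L, ⟨hL, hLJ⟩, -⟩ := Components.existsUnique_pComponent hJ
  have hconj : ∀ g : ↥C, q g ∈ normalizer (J : Set (↥C ⧸ O)) → g ∈ normalizer (L : Set ↥C) := by
    intro g hg
    refine Components.mem_normalizer_of_map_conj_eq ?_
    refine Components.pComponent_ext (Components.pComponent_conj hL g) hL ?_
    rw [Subgroup.map_map, show (Components.qmap 2 ↥C).comp (MulAut.conj g).toMonoidHom =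
      (MulAut.conj (q g)).toMonoidHom.comp (Components.qmap 2 ↥C) from
      MonoidHom.ext fun u => by simp [q, MulAut.conj_apply], ← Subgroup.map_map, hLJ]
    exact Components.map_conj_eq_of_mem_normalizer hg
  have hLx : x' ∈ normalizer (L : Set ↥C) := hconj x' hxn
  have hLD : D' ≤ normalizer (L : Set ↥C) := fun d hd => hconj d (hDn ⟨d, hd, rfl⟩)
  set M := ⁅L, D'⁆ with hM
  have hML : M ≤ L := (commutator_comm L D').le.trans (Components.commutator_le_of_le_normalizer hLD)
  have hMn : (M.subgroupOf L).Normal :=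
    (normal_subgroupOf_iff_le_normalizer hML).2 (normalizer_commutator_ge_left L D')
  have hMeq : M.map q = J := by
    have h1 : M.map q ≤ J := (Subgroup.map_mono hML).trans hLJ.le
    refine le_antisymm h1 ?_
    have h2 : J ≤ normalizer ((M.map q : Subgroup _) : Set (↥C ⧸ O)) := by
      rw [hM, Subgroup.map_commutator, hLJ]
      exact normalizer_commutator_ge_left _ _
    rcases Components.qsSub_normal hJ.2 h2 with h3 | h3
    · exact h3
    · exfalso
      apply hJD
      rw [le_centralizer_iff, ← commutator_eq_bot_iff_le_centralizer]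
      refine Components.commutator_eq_bot_of_perfect (Components.component_perfect hJ) ?_
      rw [commutator_comm, ← hLJ, ← Subgroup.map_commutator L D', ← hM, hLJ]
      rwa [inf_eq_right.2 h1] at h3
  have hMs : M.IsSubnormal := .step _ _ hML hL.1 hMn
  have hMLeq : M = L := hL.2.2 M hMs hML (hMeq.trans hLJ.symm)
  refine ⟨L, hL, ?_, ?_⟩
  · rintro _ ⟨l, hl, rfl⟩
    exact ⟨x' * l * x'⁻¹, (mem_normalizer_iff.1 hLx l).1 hl, rfl⟩
  · have hcomm : ⁅L.map C.subtype, D⁆ = L.map C.subtype := by
      conv_rhs => rw [← hMLeq, hM, Subgroup.map_commutator]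
      rw [hD', Subgroup.map_subgroupOf_eq_of_le (inf_le_right : D ≤ C)]
    rw [hcomm]
    refine (sup_eq_right.2 ?_).symm
    rintro _ ⟨l, -, rfl⟩
    exact ⟨l, l.2, rfl⟩

/-- A finite group without unbalancing triples is balanced. -/
theorem isBalanced_or_triple :
    Cfsg.IsBalanced G ∨
      ∃ (a x : G) (L : Subgroup ↥(centralizer ({a} : Set G))), orderOf a = 2 ∧ orderOf x = 2 ∧
        Commute a x ∧ Cfsg.IsPComponent 2 L ∧
        (∀ l ∈ L.map (centralizer ({a} : Set G)).subtype,
          x * l * x⁻¹ ∈ L.map (centralizer ({a} : Set G)).subtype) ∧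
        L.map (centralizer ({a} : Set G)).subtype =
          (Cfsg.oddCore ↥L).map ((centralizer ({a} : Set G)).subtype.comp L.subtype) ⊔
            ⁅L.map (centralizer ({a} : Set G)).subtype,
              Cfsg.centralizerPPrimeCore 2 x ⊓ centralizer ({a} : Set G)⁆ := by
  by_cases hT : ∀ a x : G, orderOf a = 2 → orderOf x = 2 → Commute a x →
      Cfsg.centralizerPPrimeCore 2 x ⊓ centralizer ({a} : Set G) ≤ Cfsg.centralizerPPrimeCore 2 a
  · left
    intro x y hx hy hxy
    refine le_antisymm (le_inf (hT y x hy hx hxy.symm) ?_) (le_inf (hT x y hx hy hxy) ?_)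
    · exact inf_le_left.trans (map_subtype_le _)
    · exact inf_le_left.trans (map_subtype_le _)
  · right
    push Not at hT
    obtain ⟨a, x, ha, hx, hax, hnle⟩ := hT
    obtain ⟨L, hL⟩ := (le_core_or_triple hx hax).resolve_left hnle
    exact ⟨a, x, L, ha, hx, hax, hL⟩

end Cfsg.Agent.H13.Unbalanced
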