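import Cfsg.Agent.H13.Unbalanced
import Cfsg.Agent.H70.Balanced.Rows
import Cfsg.Agent.S0502

/-!
# Trivial cores or an unbalancing triple (the shape of S3111)

`hcores` is the core killing theorem for balanced groups with a connected Sylow 2-subgroup
(the second case of S1291).
-/

set_option autoImplicit false
set_option linter.style.haveILetI false

namespace Cfsg.Agent.H13.Unbalanced

open Subgroup

/-- S3111, given core killing for balanced groups. -/
theorem cores_or_triple {G : Type*} [Group G] [Finite G] [IsSimpleGroup G]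
    (hcores : Cfsg.IsBalanced G → Cfsg.oddCore G = ⊥ → ¬ Cfsg.PRankLE 2 2 G →
      (∃ S : Sylow 2 G, Cfsg.IsFourConnected ↥(S : Subgroup G)) →
      ∀ t : G, orderOf t = 2 → Cfsg.centralizerPPrimeCore 2 t = ⊥)
    (hG : ¬ IsMulCommutative G) (S : Sylow 2 G) (A : Subgroup ↥(S : Subgroup G)) (hAn : A.Normal)
    (hAab : IsMulCommutative ↥A) (hA3 : ¬ Cfsg.PRankLE 2 2 ↥A) :
    (∀ t : G, orderOf t = 2 → Cfsg.centralizerPPrimeCore 2 t = ⊥) ∨
      ∃ (a x : G) (L : Subgroup ↥(centralizer ({a} : Set G))), orderOf a = 2 ∧ orderOf x = 2 ∧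
        Commute a x ∧ Cfsg.IsPComponent 2 L ∧
        (∀ l ∈ L.map (centralizer ({a} : Set G)).subtype,
          x * l * x⁻¹ ∈ L.map (centralizer ({a} : Set G)).subtype) ∧
        L.map (centralizer ({a} : Set G)).subtype =
          (Cfsg.oddCore ↥L).map ((centralizer ({a} : Set G)).subtype.comp L.subtype) ⊔
            ⁅L.map (centralizer ({a} : Set G)).subtype,
              Cfsg.centralizerPPrimeCore 2 x ⊓ centralizer ({a} : Set G)⁆ := by
  rcases isBalanced_or_triple (G := G) with hbal | h
  · left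
    obtain ⟨E, hES, hSE, hE, hE8⟩ := H30.ConnectedCores.exists_normal_elementary A hAn hAab hA3
    haveI : (E.subgroupOf (S : Subgroup G)).Normal := (normal_subgroupOf_iff_le_normalizer hES).2 hSE
    refine hcores hbal (H70.Balanced.oddCore_eq_bot_of_simple hG) ?_ ⟨S, ?_⟩
    · exact H70.Balanced.not_pRankLE_of_eight hE hE8
    · exact Cfsg.Agent.S0502.result S.isPGroup' (E.subgroupOf (S : Subgroup G))
        ⟨⟨fun a b => Subtype.ext (Subtype.ext (H36.NilPPrime.elem_comm hE a.2 b.2))⟩⟩
        (fun e he => Subtype.ext (by simpa using hE.2 _ he))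
        (by rwa [Nat.card_congr (subgroupOfEquivOfLe hES).toEquiv])
  · exact Or.inr h

end Cfsg.Agent.H13.Unbalanced
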